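import Mathlib
import Groth.Prelude.Def_CohB1
import Groth.Agent.Lib.Helper7.ModDesc.Main
import Groth.Agent.Lib.Helper7.ConsMod.Basic
import Groth.Agent.Lib.Helper7.LimBC
import Groth.Agent.Lib.Helper1.InvFt
import Groth.Agent.S4793

set_option linter.style.haveILetI false
set_option linter.unusedVariables false
set_option linter.unusedSectionVars false
set_option autoImplicit false
set_option backward.isDefEq.respectTransparency.types false
set_option backward.isDefEq.respectTransparency false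
set_option synthInstance.maxHeartbeats 400000
set_option maxHeartbeats 1600000

universe u

/-! helper7: relative generation of an invertible module by its direct image (epimorphic counit of the pullback-pushforward adjunction) descends from a cofiltered limit of schemes to a finite stage -/

open CategoryTheory CategoryTheory.Limits AlgebraicGeometry

namespace Groth.Agent.Helper7.GenStage

open Groth.Agent.Helper7.LimBC Groth.Agent.Helper7.ConsMod

section Gen

theorem epi_mid_of_epi_conj {C : Type*} [Category C] {A A' B B' : C} (a : A ⟶ A') (m : A' ⟶ B)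
    (b : B ⟶ B') [IsIso a] [IsIso b] (h : Epi (a ≫ m ≫ b)) : Epi m := by
  haveI := h
  haveI : Epi (m ≫ b) := epi_of_epi a (m ≫ b)
  have e : m = (m ≫ b) ≫ inv b := by simp
  rw [e]
  infer_instance

theorem epi_pullback_map {A B : Scheme.{u}} (a : A ⟶ B) {M N : B.Modules} (h : M ⟶ N) [Epi h] :
    Epi ((Scheme.Modules.pullback a).map h) := by
  haveI : (Scheme.Modules.pullback a).PreservesEpimorphisms :=
    Functor.preservesEpimorphisms_of_adjunction (Scheme.Modules.pullbackPushforwardAdjunction a)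
  infer_instance

/-- a module which is a quotient of a pullback along `f` is generated relative to `f`. -/
theorem epi_counit_of_epi {X Y : Scheme.{u}} (f : X ⟶ Y) {G : Y.Modules} {M : X.Modules}
    (p : (Scheme.Modules.pullback f).obj G ⟶ M) [Epi p] :
    Epi ((Scheme.Modules.pullbackPushforwardAdjunction f).counit.app M) := by
  have e := Adjunction.homEquiv_counit (Scheme.Modules.pullbackPushforwardAdjunction f) G M
    ((Scheme.Modules.pullbackPushforwardAdjunction f).homEquiv G M p)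
  rw [Equiv.symm_apply_apply] at e
  haveI : Epi ((Scheme.Modules.pullback f).map
      ((Scheme.Modules.pullbackPushforwardAdjunction f).homEquiv G M p) ≫
      (Scheme.Modules.pullbackPushforwardAdjunction f).counit.app M) := by
    rw [← e]
    infer_instance
  exact epi_of_epi ((Scheme.Modules.pullback f).map
      ((Scheme.Modules.pullbackPushforwardAdjunction f).homEquiv G M p)) _

/-- iterated pullbacks along three composable morphisms. -/
noncomputable def pb3 {A B C E : Scheme.{u}} (s : A ⟶ B) (t : B ⟶ C) (r : C ⟶ E) (N : E.Modules) :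
    (Scheme.Modules.pullback s).obj ((Scheme.Modules.pullback t).obj
      ((Scheme.Modules.pullback r).obj N)) ≅ (Scheme.Modules.pullback (s ≫ t ≫ r)).obj N :=
  (Scheme.Modules.pullback s).mapIso ((Scheme.Modules.pullbackComp t r).app N) ≪≫
    (Scheme.Modules.pullbackComp s (t ≫ r)).app N

/-- a quasi-coherent module of finite type generated relative to a quasi-compact quasi-separated
morphism to a quasi-compact quasi-separated scheme is a quotient of the pullback of a finitely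
presented module. -/
theorem exists_fp_pullback_epi_of_counit {X Y : Scheme.{u}} (f : X ⟶ Y) [QuasiCompact f]
    [QuasiSeparated f] [CompactSpace Y] [QuasiSeparatedSpace Y] (F : X.Modules)
    [F.IsQuasicoherent] (hF : CohB1.IsFT F)
    (hepi : Epi ((Scheme.Modules.pullbackPushforwardAdjunction f).counit.app F)) :
    ∃ (G : Y.Modules) (p : (Scheme.Modules.pullback f).obj G ⟶ F), CohB1.IsFP G ∧ Epi p := by
  haveI : CompactSpace X := QuasiCompact.compactSpace_of_compactSpace f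
  haveI hP : ((Scheme.Modules.pushforward f).obj F).IsQuasicoherent :=
    Groth.Agent.Helper1.PushQc.isQuasicoherent_pushforward f F
  obtain ⟨J, _, _, Dg, cg, hcg, hfp, hpt⟩ :=
    Groth.Agent.Helper1.FPA.exists_filtered_colimit_fp (F := (Scheme.Modules.pushforward f).obj F)
  obtain ⟨pt, ι⟩ := cg
  change pt = _ at hpt
  subst hpt
  haveI : PreservesColimit Dg (Scheme.Modules.pullback f) :=
    (Scheme.Modules.pullbackPushforwardAdjunction f).leftAdjoint_preservesColimits.preservesColimitsOfShape.preservesColimit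
  let c' : Cocone (Dg ⋙ Scheme.Modules.pullback f) :=
    (Scheme.Modules.pullback f).mapCocone ⟨_, ι⟩
  have hc' : IsColimit c' := isColimitOfPreserves (Scheme.Modules.pullback f) hcg
  haveI : c'.pt.IsQuasicoherent :=
    Groth.Agent.Lead.PB.isQuasicoherent_pullback f ((Scheme.Modules.pushforward f).obj F)
  haveI := hepi
  obtain ⟨j₀, hj₀⟩ := Groth.Agent.Helper1.FPA.exists_stage_epi c' hc' F hF
    ((Scheme.Modules.pullbackPushforwardAdjunction f).counit.app F)
  exact ⟨Dg.obj j₀, _, hfp j₀, hj₀ j₀ ⟨𝟙 j₀⟩⟩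

end Gen

section Defs

variable {I : Type u} [SmallCategory I] {D : I ⥤ Scheme.{u}} {c : Cone D} {i₀ : I}
  {T : Scheme.{u}} {a : T ⟶ D.obj i₀}

/-- the projection of a stage of the base-changed diagram. -/
noncomputable def bcFst (D : I ⥤ Scheme.{u}) (i₀ : I) {T : Scheme.{u}} (a : T ⟶ D.obj i₀)
    (j : Over i₀) : (bcDiagram D i₀ a).obj j ⟶ T := pullback.fst a (D.map j.hom)

@[reassoc]
theorem bcDiagram_map_bcFst {j k : Over i₀} (u : j ⟶ k) :
    (bcDiagram D i₀ a).map u ≫ bcFst D i₀ a k = bcFst D i₀ a j := bcDiagram_map_fst D i₀ a u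

/-- the projection of the base-changed limit to a stage. -/
noncomputable abbrev bcπ {Y : Scheme.{u}} {qY : Y ⟶ T} {g : Y ⟶ c.pt}
    (hY : IsPullback qY g a (c.π.app i₀)) (j : Over i₀) : Y ⟶ (bcDiagram D i₀ a).obj j :=
  (bcCone hY).π.app j

@[reassoc]
theorem bcπ_bcFst {Y : Scheme.{u}} {qY : Y ⟶ T} {g : Y ⟶ c.pt}
    (hY : IsPullback qY g a (c.π.app i₀)) (j : Over i₀) :
    bcπ hY j ≫ bcFst D i₀ a j = qY := bcCone_π_fst hY j

variable {X₀ Y₀ : Scheme.{u}} (f₀ : X₀ ⟶ Y₀) (g₀ : Y₀ ⟶ D.obj i₀)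

/-- the morphism between the stages of the base changes of `X₀` and of `Y₀`. -/
noncomputable def bcMap (j : Over i₀) :
    (bcDiagram D i₀ (f₀ ≫ g₀)).obj j ⟶ (bcDiagram D i₀ g₀).obj j :=
  pullback.lift (pullback.fst (f₀ ≫ g₀) (D.map j.hom) ≫ f₀)
    (pullback.snd (f₀ ≫ g₀) (D.map j.hom))
    (by rw [Category.assoc, pullback.condition])

@[reassoc]
theorem bcMap_bcFst (j : Over i₀) :
    bcMap f₀ g₀ j ≫ bcFst D i₀ g₀ j = bcFst D i₀ (f₀ ≫ g₀) j ≫ f₀ := by
  simp [bcMap, bcFst]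

@[reassoc]
theorem bcMap_snd (j : Over i₀) :
    bcMap f₀ g₀ j ≫ pullback.snd g₀ (D.map j.hom) = pullback.snd (f₀ ≫ g₀) (D.map j.hom) := by
  simp [bcMap]

@[reassoc]
theorem bcDiagram_map_bcMap {j k : Over i₀} (u : j ⟶ k) :
    (bcDiagram D i₀ (f₀ ≫ g₀)).map u ≫ bcMap f₀ g₀ k =
      bcMap f₀ g₀ j ≫ (bcDiagram D i₀ g₀).map u := by
  apply pullback.hom_ext
  · simp [bcMap]
  · simp [bcMap]

theorem bcπ_bcMap {X Y : Scheme.{u}} {f : X ⟶ Y} {g : Y ⟶ c.pt} {qY : Y ⟶ Y₀} {qX : X ⟶ X₀}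
    (hY : IsPullback qY g g₀ (c.π.app i₀))
    (hX' : IsPullback qX (f ≫ g) (f₀ ≫ g₀) (c.π.app i₀))
    (hw : qX ≫ f₀ = f ≫ qY) (j : Over i₀) :
    bcπ hX' j ≫ bcMap f₀ g₀ j = f ≫ bcπ hY j := by
  apply pullback.hom_ext
  · simp [bcMap, bcπ, hw]
  · simp [bcMap, bcπ]

end Defs

section Lim

variable {I : Type u} [SmallCategory I] [IsCofiltered I] (D : I ⥤ Scheme.{u}) (c : Cone D)
  (hc : IsLimit c) [∀ (i j : I) (f : i ⟶ j), IsAffineHom (D.map f)] (i₀ : I)
  [CompactSpace (D.obj i₀)] [QuasiSeparatedSpace (D.obj i₀)]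

include hc in
/-- an epimorphism between the pullbacks to the limit of a finitely presented module and of a
quasi-coherent module of finite type comes from an epimorphism at a finite stage. -/
theorem exists_stage_epi_hom (F₀ G₀ : (D.obj i₀).Modules) [F₀.IsQuasicoherent]
    [G₀.IsQuasicoherent] (hF₀ : CohB1.IsFP F₀) (hG₀ : CohB1.IsFT G₀)
    (h : (Scheme.Modules.pullback (c.π.app i₀)).obj F₀ ⟶
      (Scheme.Modules.pullback (c.π.app i₀)).obj G₀) [Epi h] :
    ∃ (j : I) (φ : j ⟶ i₀) (hj : (Scheme.Modules.pullback (D.map φ)).obj F₀ ⟶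
        (Scheme.Modules.pullback (D.map φ)).obj G₀), Epi hj := by
  have hI : ∀ {i j : I} (f : i ⟶ j), IsAffineHom (D.map f) := fun f => inferInstance
  obtain ⟨j₁, φ₁, h₁, hh₁⟩ := Groth.Agent.Lib.Helper4.LimHomF.S4811_main D c hc i₀ F₀ G₀ hF₀ h
  haveI : CompactSpace (D.obj j₁) := QuasiCompact.compactSpace_of_compactSpace (D.map φ₁)
  haveI : ((Scheme.Modules.pullback (D.map φ₁)).obj F₀).IsQuasicoherent :=
    Groth.Agent.Lead.PB.isQuasicoherent_pullback _ _
  haveI : ((Scheme.Modules.pullback (D.map φ₁)).obj G₀).IsQuasicoherent :=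
    Groth.Agent.Lead.PB.isQuasicoherent_pullback _ _
  have hG₁ : CohB1.IsFT ((Scheme.Modules.pullback (D.map φ₁)).obj G₀) :=
    Groth.Agent.Lead.PB.isFT_pullback _ _ hG₀
  have hepi₁ : Epi ((Scheme.Modules.pullback (c.π.app j₁)).map h₁) := by
    have h2 : Epi h := inferInstance
    rw [← hh₁] at h2
    exact epi_mid_of_epi_conj _ _ _ h2
  obtain ⟨j₂, φ₂, hepi₂⟩ := (Groth.Agent.S4793.result D c hc j₁ hG₁ h₁).1 hepi₁
  haveI := hepi₂
  refine ⟨j₂, φ₂ ≫ φ₁, (pullbackFacIso (D.map_comp φ₂ φ₁).symm F₀).hom ≫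
    (Scheme.Modules.pullback (D.map φ₂)).map h₁ ≫
      (pullbackFacIso (D.map_comp φ₂ φ₁).symm G₀).inv, ?_⟩
  infer_instance

variable {T : Scheme.{u}} (a : T ⟶ D.obj i₀)

include hc in
theorem exists_descend_bc [CompactSpace T] [QuasiSeparatedSpace T] {Y : Scheme.{u}} {qY : Y ⟶ T}
    {g : Y ⟶ c.pt} (hY : IsPullback qY g a (c.π.app i₀)) (G : Y.Modules) [G.IsQuasicoherent]
    (hG : CohB1.IsFP G) :
    ∃ (j : Over i₀) (Gj : ((bcDiagram D i₀ a).obj j).Modules), Gj.IsQuasicoherent ∧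
      CohB1.IsFP Gj ∧ Nonempty ((Scheme.Modules.pullback (bcπ hY j)).obj Gj ≅ G) := by
  have hI : ∀ {i j : I} (f : i ⟶ j), IsAffineHom (D.map f) := fun f => inferInstance
  haveI : ∀ (j k : Over i₀) (u : j ⟶ k), IsAffineHom ((bcDiagram D i₀ a).map u) :=
    fun _ _ u => inferInstance
  obtain ⟨j, _, Gj, h1, h2, h3⟩ := Groth.Agent.Helper7.ModDesc.exists_descend (bcDiagram D i₀ a)
    (bcCone hY) (isLimitBcCone hc hY) (Over.mk (𝟙 i₀)) G hG
  exact ⟨j, Gj, h1, h2, h3⟩

include hc in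
theorem exists_stage_epi_hom_bc [CompactSpace T] [QuasiSeparatedSpace T] {X : Scheme.{u}}
    {qX : X ⟶ T} {g : X ⟶ c.pt} (hX : IsPullback qX g a (c.π.app i₀)) (j : Over i₀)
    (F₀ G₀ : ((bcDiagram D i₀ a).obj j).Modules) [F₀.IsQuasicoherent] [G₀.IsQuasicoherent]
    (hF₀ : CohB1.IsFP F₀) (hG₀ : CohB1.IsFT G₀)
    (h : (Scheme.Modules.pullback (bcπ hX j)).obj F₀ ⟶
      (Scheme.Modules.pullback (bcπ hX j)).obj G₀) [Epi h] :
    ∃ (l : Over i₀) (φ : l ⟶ j)
      (hl : (Scheme.Modules.pullback ((bcDiagram D i₀ a).map φ)).obj F₀ ⟶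
        (Scheme.Modules.pullback ((bcDiagram D i₀ a).map φ)).obj G₀), Epi hl := by
  have hI : ∀ {i j : I} (f : i ⟶ j), IsAffineHom (D.map f) := fun f => inferInstance
  haveI : ∀ (j k : Over i₀) (u : j ⟶ k), IsAffineHom ((bcDiagram D i₀ a).map u) :=
    fun _ _ u => inferInstance
  exact exists_stage_epi_hom (bcDiagram D i₀ a) (bcCone hX) (isLimitBcCone hc hX) j F₀ G₀ hF₀ hG₀ h

variable {X₀ Y₀ : Scheme.{u}} (f₀ : X₀ ⟶ Y₀) (g₀ : Y₀ ⟶ D.obj i₀)

include hc in
/-- relative generation of the pullback of an invertible module by its direct image descends from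
the limit to a finite stage. -/
theorem main [QuasiCompact g₀] [QuasiSeparated g₀] [QuasiCompact (f₀ ≫ g₀)]
    [QuasiSeparated (f₀ ≫ g₀)] (L₀ : X₀.Modules) (hL₀ : PicF.IsInvertible L₀)
    {X Y : Scheme.{u}} (f : X ⟶ Y) (g : Y ⟶ c.pt) (qY : Y ⟶ Y₀) (qX : X ⟶ X₀)
    (hY : IsPullback qY g g₀ (c.π.app i₀)) (hX : IsPullback qX f f₀ qY)
    (hgen : Epi ((Scheme.Modules.pullbackPushforwardAdjunction f).counit.app
      ((Scheme.Modules.pullback qX).obj L₀))) :
    ∃ (j : I) (φ : j ⟶ i₀), ∀ (k : I) (ψ : k ⟶ j) (Xk Yk : Scheme.{u}) (fk : Xk ⟶ Yk)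
      (gk : Yk ⟶ D.obj k) (pY : Yk ⟶ Y₀) (pX : Xk ⟶ X₀),
      IsPullback pY gk g₀ (D.map (ψ ≫ φ)) → IsPullback pX fk f₀ pY →
        Epi ((Scheme.Modules.pullbackPushforwardAdjunction fk).counit.app
          ((Scheme.Modules.pullback pX).obj L₀)) := by
  have hI : ∀ {i j : I} (f : i ⟶ j), IsAffineHom (D.map f) := fun f => inferInstance
  haveI hπ : IsAffineHom (c.π.app i₀) := isAffineHom_π_app D c hc i₀
  haveI : CompactSpace Y₀ := QuasiCompact.compactSpace_of_compactSpace g₀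
  haveI : QuasiSeparatedSpace Y₀ := quasiSeparatedSpace_of_quasiSeparated g₀
  haveI : CompactSpace X₀ := QuasiCompact.compactSpace_of_compactSpace (f₀ ≫ g₀)
  haveI : QuasiSeparatedSpace X₀ := quasiSeparatedSpace_of_quasiSeparated (f₀ ≫ g₀)
  haveI : CompactSpace c.pt := QuasiCompact.compactSpace_of_compactSpace (c.π.app i₀)
  haveI : QuasiSeparatedSpace c.pt := quasiSeparatedSpace_of_quasiSeparated (c.π.app i₀)
  haveI : QuasiCompact g := MorphismProperty.of_isPullback hY inferInstance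
  haveI : QuasiSeparated g := MorphismProperty.of_isPullback hY inferInstance
  haveI : CompactSpace Y := QuasiCompact.compactSpace_of_compactSpace g
  haveI : QuasiSeparatedSpace Y := quasiSeparatedSpace_of_quasiSeparated g
  haveI : QuasiSeparated f₀ := QuasiSeparated.of_comp f₀ g₀
  haveI : QuasiCompact f₀ := QuasiCompact.of_comp f₀ g₀
  haveI : QuasiCompact f := MorphismProperty.of_isPullback hX inferInstance
  haveI : QuasiSeparated f := MorphismProperty.of_isPullback hX inferInstance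
  haveI hL₀qc : L₀.IsQuasicoherent :=
    Groth.Agent.Helper1.InvQc.isQuasicoherent_of_isInvertible L₀ hL₀
  have hL₀ft : CohB1.IsFT L₀ := (Groth.Agent.Helper1.InvQc.isCoh_of_isInvertible L₀ hL₀).2
  haveI : ((Scheme.Modules.pullback qX).obj L₀).IsQuasicoherent :=
    Groth.Agent.Lead.PB.isQuasicoherent_pullback qX L₀
  have hLft : CohB1.IsFT ((Scheme.Modules.pullback qX).obj L₀) :=
    Groth.Agent.Lead.PB.isFT_pullback qX L₀ hL₀ft
  obtain ⟨G, p, hG, hp⟩ := exists_fp_pullback_epi_of_counit f _ hLft hgen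
  haveI := hp
  haveI : G.IsQuasicoherent := Groth.Agent.Helper1.FPA.isQuasicoherent_of_isFP G hG
  have hX' : IsPullback qX (f ≫ g) (f₀ ≫ g₀) (c.π.app i₀) := hX.paste_vert hY
  -- descend `G` to a stage of the system of base changes of `Y₀`
  obtain ⟨j, Gj, hGjqc, hGjfp, ⟨eG⟩⟩ := exists_descend_bc D c hc i₀ g₀ hY G hG
  haveI := hGjqc
  haveI : ((Scheme.Modules.pullback (bcMap f₀ g₀ j)).obj Gj).IsQuasicoherent :=
    Groth.Agent.Lead.PB.isQuasicoherent_pullback _ _
  have hF₀ : CohB1.IsFP ((Scheme.Modules.pullback (bcMap f₀ g₀ j)).obj Gj) :=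
    Groth.Agent.Lead.LimZ.isFP_pullback _ Gj hGjfp
  haveI : ((Scheme.Modules.pullback (bcFst D i₀ (f₀ ≫ g₀) j)).obj L₀).IsQuasicoherent :=
    Groth.Agent.Lead.PB.isQuasicoherent_pullback _ _
  have hG₀ : CohB1.IsFT ((Scheme.Modules.pullback (bcFst D i₀ (f₀ ≫ g₀) j)).obj L₀) :=
    Groth.Agent.Lead.PB.isFT_pullback _ _ hL₀ft
  -- the epimorphism on the limit
  haveI : Epi ((Scheme.Modules.pullback f).map eG.hom) := inferInstance
  obtain ⟨h, hhepi⟩ : ∃ h : (Scheme.Modules.pullback (bcπ hX' j)).obj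
      ((Scheme.Modules.pullback (bcMap f₀ g₀ j)).obj Gj) ⟶
      (Scheme.Modules.pullback (bcπ hX' j)).obj
        ((Scheme.Modules.pullback (bcFst D i₀ (f₀ ≫ g₀) j)).obj L₀), Epi h :=
    ⟨(pullbackSquareIso (bcπ_bcMap f₀ g₀ hY hX' hX.w j) Gj).hom ≫
      (Scheme.Modules.pullback f).map eG.hom ≫ p ≫
        (pullbackFacIso (bcπ_bcFst hX' j) L₀).hom, by infer_instance⟩
  haveI := hhepi
  obtain ⟨l, φ, hl, hlepi⟩ := exists_stage_epi_hom_bc D c hc i₀ (f₀ ≫ g₀) hX' j _ _ hF₀ hG₀ h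
  haveI := hlepi
  refine ⟨l.left, l.hom, ?_⟩
  intro k ψ Xk Yk fk gk pY pX hYk hXk
  obtain ⟨b, hb1, hb2⟩ : ∃ b : Yk ⟶ (bcDiagram D i₀ g₀).obj l, b ≫ bcFst D i₀ g₀ l = pY ∧
      b ≫ pullback.snd g₀ (D.map l.hom) = gk ≫ D.map ψ :=
    ⟨pullback.lift pY (gk ≫ D.map ψ) (by rw [hYk.w, D.map_comp, Category.assoc]),
      pullback.lift_fst _ _ _, pullback.lift_snd _ _ _⟩
  obtain ⟨a, ha1, ha2⟩ : ∃ a : Xk ⟶ (bcDiagram D i₀ (f₀ ≫ g₀)).obj l,
      a ≫ bcFst D i₀ (f₀ ≫ g₀) l = pX ∧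
      a ≫ pullback.snd (f₀ ≫ g₀) (D.map l.hom) = fk ≫ gk ≫ D.map ψ :=
    ⟨pullback.lift pX (fk ≫ gk ≫ D.map ψ) (by
        rw [← Category.assoc, hXk.w, Category.assoc, hYk.w, D.map_comp]
        simp only [Category.assoc]),
      pullback.lift_fst _ _ _, pullback.lift_snd _ _ _⟩
  have e1 : (a ≫ bcMap f₀ g₀ l) ≫ bcFst D i₀ g₀ l = (fk ≫ b) ≫ bcFst D i₀ g₀ l := by
    rw [Category.assoc, bcMap_bcFst, reassoc_of% ha1, Category.assoc, hb1, hXk.w]
  have e2 : (a ≫ bcMap f₀ g₀ l) ≫ pullback.snd g₀ (D.map l.hom) =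
      (fk ≫ b) ≫ pullback.snd g₀ (D.map l.hom) := by
    rw [Category.assoc, bcMap_snd, ha2, Category.assoc, hb2]
  have hab : a ≫ bcMap f₀ g₀ l = fk ≫ b := pullback.hom_ext e1 e2
  have w5 : fk ≫ b ≫ (bcDiagram D i₀ g₀).map φ =
      a ≫ (bcDiagram D i₀ (f₀ ≫ g₀)).map φ ≫ bcMap f₀ g₀ j := by
    rw [bcDiagram_map_bcMap, reassoc_of% hab]
  have w6 : a ≫ (bcDiagram D i₀ (f₀ ≫ g₀)).map φ ≫ bcFst D i₀ (f₀ ≫ g₀) j = pX := by
    rw [bcDiagram_map_bcFst, ha1]
  let src : (Scheme.Modules.pullback fk).obj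
      ((Scheme.Modules.pullback (b ≫ (bcDiagram D i₀ g₀).map φ)).obj Gj) ≅
      (Scheme.Modules.pullback a).obj ((Scheme.Modules.pullback
        ((bcDiagram D i₀ (f₀ ≫ g₀)).map φ)).obj ((Scheme.Modules.pullback (bcMap f₀ g₀ j)).obj Gj)) :=
    (Scheme.Modules.pullbackComp fk (b ≫ (bcDiagram D i₀ g₀).map φ)).app Gj ≪≫
      (Scheme.Modules.pullbackCongr w5).app Gj ≪≫
        (pb3 a ((bcDiagram D i₀ (f₀ ≫ g₀)).map φ) (bcMap f₀ g₀ j) Gj).symm
  let tgt : (Scheme.Modules.pullback a).obj ((Scheme.Modules.pullback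
        ((bcDiagram D i₀ (f₀ ≫ g₀)).map φ)).obj
          ((Scheme.Modules.pullback (bcFst D i₀ (f₀ ≫ g₀) j)).obj L₀)) ≅
      (Scheme.Modules.pullback pX).obj L₀ :=
    pb3 a ((bcDiagram D i₀ (f₀ ≫ g₀)).map φ) (bcFst D i₀ (f₀ ≫ g₀) j) L₀ ≪≫
      (Scheme.Modules.pullbackCongr w6).app L₀
  haveI : Epi ((Scheme.Modules.pullback a).map hl) := epi_pullback_map a hl
  haveI : Epi (src.hom ≫ (Scheme.Modules.pullback a).map hl ≫ tgt.hom) := inferInstance
  exact epi_counit_of_epi fk (src.hom ≫ (Scheme.Modules.pullback a).map hl ≫ tgt.hom)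

end Lim

end Groth.Agent.Helper7.GenStage
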